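import Cfsg.Prelude.Def_GeometricClasses
import Mathlib.GroupTheory.PGroup
import Mathlib.GroupTheory.SpecificGroups.Cyclic
import Mathlib.LinearAlgebra.Eigenspace.Basic
import Mathlib.Tactic

/-!
Non-abelian groups of order 27 and exponent 3 in `GL₃`: monomial coordinates and elements of the normaliser.
-/

set_option autoImplicit false
set_option linter.unusedSectionVars false

namespace CfsgLib.ExtraThree

open Matrix
open scoped MatrixGroups

variable {F : Type*} [Field F]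

/-- `diag (1, w, w²)` -/
def matA (w : F) : Matrix (Fin 3) (Fin 3) F := Matrix.diagonal ![1, w, w ^ 2]

/-- the cyclic shift `eₖ ↦ eₖ₊₁` -/
def matB (F : Type*) [Field F] : Matrix (Fin 3) (Fin 3) F :=
  !![0, 0, 1; 1, 0, 0; 0, 1, 0]

/-- minus the transposition of the last two coordinates -/
def matT (F : Type*) [Field F] : Matrix (Fin 3) (Fin 3) F :=
  !![-1, 0, 0; 0, 0, -1; 0, -1, 0]

/-- Coordinates for `R`. -/
structure Frame (R : Subgroup (GL (Fin 3) F)) where
  w : F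
  w_cube : w ^ 3 = 1
  w_ne : w ≠ 1
  a : GL (Fin 3) F
  b : GL (Fin 3) F
  c : GL (Fin 3) F
  a_mem : a ∈ R
  b_mem : b ∈ R
  c_mem : c ∈ R
  coe_c : (c : Matrix (Fin 3) (Fin 3) F) = w • 1
  closure_eq : Subgroup.closure {a, b} = R
  P : GL (Fin 3) F
  a_eq : (a : Matrix (Fin 3) (Fin 3) F) * P = P * matA w
  b_eq : (b : Matrix (Fin 3) (Fin 3) F) * P = P * matB F

theorem pow_cube_mod {w : F} (hw : w ^ 3 = 1) (i : ℕ) : w ^ i = w ^ (i % 3) := by
  conv_lhs => rw [← Nat.mod_add_div i 3, pow_add, pow_mul, hw, one_pow, mul_one]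

theorem cube_root_sum {w : F} (hw : w ^ 3 = 1) (hw1 : w ≠ 1) : 1 + w + w ^ 2 = 0 :=
  (mul_eq_zero.1 (show (w - 1) * (1 + w + w ^ 2) = 0 by linear_combination hw)).resolve_left
    (sub_ne_zero.2 hw1)

/-- The three components of a vector for a matrix of order three. -/
theorem exists_components (h3 : (3 : F) ≠ 0) {w : F} (hw : w ^ 3 = 1) (hw1 : w ≠ 1)
    {M : Matrix (Fin 3) (Fin 3) F} (hM : M ^ 3 = 1) (v : Fin 3 → F) :
    ∃ u : Fin 3 → (Fin 3 → F), (∀ i, M *ᵥ u i = w ^ (i : ℕ) • u i) ∧ v = u 0 + u 1 + u 2 ∧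
      ∀ (C : Matrix (Fin 3) (Fin 3) F), C * M = M * C → ∀ μ : F, C *ᵥ v = μ • v →
        ∀ i, C *ᵥ u i = μ • u i := by
  have hs := cube_root_sum hw hw1
  have hM3 : M *ᵥ (M *ᵥ (M *ᵥ v)) = v := by
    rw [mulVec_mulVec, mulVec_mulVec, show M * M * M = M ^ 3 by rw [pow_succ, pow_two], hM, one_mulVec]
  refine ⟨fun i => (3 : F)⁻¹ • (v + w ^ (2 * (i : ℕ)) • (M *ᵥ v) + w ^ (i : ℕ) • (M *ᵥ (M *ᵥ v))),
    fun i => ?_, ?_, fun C hC μ hv i => ?_⟩
  · simp only [mulVec_smul, mulVec_add, hM3]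
    have e : w ^ (i : ℕ) * w ^ (2 * (i : ℕ)) = 1 := by
      rw [← pow_add, pow_cube_mod hw, show ((i : ℕ) + 2 * i) % 3 = 0 by omega, pow_zero]
    funext j
    simp only [Pi.add_apply, Pi.smul_apply, smul_eq_mul]
    linear_combination -((3 : F)⁻¹ * (M *ᵥ v) j) * e
  · simp only [Fin.val_zero, Fin.val_one, Fin.val_two]
    rw [pow_cube_mod hw (2 * 2), show 2 * 2 % 3 = 1 from rfl]
    rw [← smul_add, ← smul_add, eq_inv_smul_iff₀ h3]
    funext j
    simp only [Pi.add_apply, Pi.smul_apply, smul_eq_mul]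
    linear_combination -((M *ᵥ v) j + (M *ᵥ (M *ᵥ v)) j) * hs
  · simp only [mulVec_smul, mulVec_add]
    have h1 : C *ᵥ (M *ᵥ v) = μ • (M *ᵥ v) := by rw [mulVec_mulVec, hC, ← mulVec_mulVec, hv, mulVec_smul]
    have h2 : C *ᵥ (M *ᵥ (M *ᵥ v)) = μ • (M *ᵥ (M *ᵥ v)) := by
      rw [mulVec_mulVec, hC, ← mulVec_mulVec, h1, mulVec_smul]
    rw [hv, h1, h2]
    module

theorem exists_frame (h3 : (3 : F) ≠ 0) {ω : F} (hω : ω ^ 3 = 1) (hω1 : ω ≠ 1)
    {R : Subgroup (GL (Fin 3) F)} (hR : Nat.card R = 27)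
    (hRe : Monoid.exponent R = 3) (hRna : ¬ IsMulCommutative R) : Nonempty (Frame R) := by
  classical
  have : Finite R := Nat.finite_of_card_ne_zero (by omega)
  haveI := Fact.mk Nat.prime_three
  have hp : IsPGroup 3 R := IsPGroup.of_card (n := 3) (by rw [hR]; norm_num)
  haveI : Nontrivial R := Finite.one_lt_card_iff_nontrivial.1 (by omega)
  obtain ⟨k, hk⟩ := IsPGroup.iff_card.1 (hp.to_subgroup (Subgroup.center R))
  have hdvd := Subgroup.card_subgroup_dvd_card (Subgroup.center R)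
  rw [hk, hR, show (27 : ℕ) = 3 ^ 3 by rfl, Nat.pow_dvd_pow_iff_le_right (by norm_num)] at hdvd
  have hk0 : k ≠ 0 := by
    rintro rfl
    haveI := hp.center_nontrivial
    have := Finite.one_lt_card (α := Subgroup.center R)
    rw [hk] at this
    simp at this
  have hq := Subgroup.card_eq_card_quotient_mul_card_subgroup (Subgroup.center R)
  rw [hR, hk] at hq
  have hk1 : k = 1 := by
    by_contra hne
    have hle : Nat.card (R ⧸ Subgroup.center R) ∣ 3 := by
      interval_cases k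
      · exact absurd rfl hk0
      · exact absurd rfl hne
      · norm_num at hq
        exact ⟨1, by omega⟩
      · norm_num at hq
        exact ⟨3, by omega⟩
    haveI : IsCyclic (R ⧸ Subgroup.center R) := by
      rcases (Nat.dvd_prime Nat.prime_three).1 hle with h | h
      · haveI := (Nat.card_eq_one_iff_unique.1 h).1
        infer_instance
      · exact isCyclic_of_prime_card h
    exact hRna ⟨⟨commutative_of_cyclic_center_quotient (QuotientGroup.mk' (Subgroup.center R)) (by simp)⟩⟩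
  subst hk1
  have hquot : Nat.card (R ⧸ Subgroup.center R) = 3 ^ 2 := by omega
  have hcent : ∀ x y : R, x * y * x⁻¹ * y⁻¹ ∈ Subgroup.center R := fun x y => by
    have hqc := IsPGroup.commutative_of_card_eq_prime_sq hquot
    rw [← QuotientGroup.eq_one_iff]
    show ((x : R ⧸ Subgroup.center R)) * y * (x : R ⧸ Subgroup.center R)⁻¹ * (y : R ⧸ Subgroup.center R)⁻¹ = 1
    rw [hqc (x : R ⧸ Subgroup.center R) y, mul_inv_cancel_right, mul_inv_cancel]
  obtain ⟨x, y, hxy⟩ : ∃ x y : R, x * y ≠ y * x := by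
    by_contra hall
    push Not at hall
    exact hRna ⟨⟨hall⟩⟩
  set c : R := x * y * x⁻¹ * y⁻¹
  have hc1 : c ≠ 1 := fun h => hxy (by
    rwa [mul_inv_eq_one, mul_inv_eq_iff_eq_mul] at h)
  have hpow' : ∀ z : R, ((z : GL (Fin 3) F) : Matrix (Fin 3) (Fin 3) F) ^ 3 = 1 := fun z => by
    rw [← Units.val_pow_eq_pow_val, ← SubmonoidClass.coe_pow,
      Monoid.exponent_dvd_iff_forall_pow_eq_one.1 (dvd_of_eq hRe) z]
    rfl
  set X := ((x : GL (Fin 3) F) : Matrix (Fin 3) (Fin 3) F)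
  set Y := ((y : GL (Fin 3) F) : Matrix (Fin 3) (Fin 3) F)
  set C := ((c : GL (Fin 3) F) : Matrix (Fin 3) (Fin 3) F) with hCdef
  have hC1 : C ≠ 1 := fun h => hc1 (Subtype.ext (Units.ext h))
  have hXY : X * Y = C * (Y * X) := by
    show ((x * y : R) : GL (Fin 3) F).val = ((c * (y * x) : R) : GL (Fin 3) F).val
    congr 2
    simp only [c]; group
  have hCcomm : ∀ z : R, C * ((z : GL (Fin 3) F) : Matrix (Fin 3) (Fin 3) F) =
      ((z : GL (Fin 3) F) : Matrix (Fin 3) (Fin 3) F) * C := fun z => by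
    show ((c * z : R) : GL (Fin 3) F).val = ((z * c : R) : GL (Fin 3) F).val
    rw [(Subgroup.mem_center_iff.1 (hcent x y) z)]
  -- an eigenvector of `C` for a root other than one
  obtain ⟨v₁, hv₁⟩ : ∃ v, C *ᵥ v ≠ v := by
    by_contra hall
    push Not at hall
    exact hC1 (Matrix.ext_of_mulVec_single fun i => by rw [hall, one_mulVec])
  obtain ⟨μ, v, hv0, hv, hμ, hμ3⟩ : ∃ (μ : F) (v : Fin 3 → F), v ≠ 0 ∧ C *ᵥ v = μ • v ∧ μ ≠ 1 ∧ μ ^ 3 = 1 := by
    obtain ⟨u, hu, hsum, -⟩ := exists_components h3 hω hω1 (hpow' c) v₁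
    by_contra hall
    push Not at hall
    have hω2 : ω ^ 2 ≠ 1 := fun e => hω1 (by linear_combination hω - ω * e)
    have h1 : u 1 = 0 := by
      by_contra hne
      exact hall ω (u 1) hne (by simpa using hu 1) hω1 hω
    have h2 : u 2 = 0 := by
      by_contra hne
      exact hall (ω ^ 2) (u 2) hne (by simpa using hu 2) hω2 (by rw [← pow_mul, mul_comm, pow_mul, hω, one_pow])
    refine hv₁ ?_
    rw [hsum, h1, h2, add_zero, add_zero, hu 0]
    simp
  -- an eigenvector of `X` inside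
  obtain ⟨α, u, hu0, hu, hCu, hα⟩ : ∃ (α : F) (u : Fin 3 → F), u ≠ 0 ∧ X *ᵥ u = α • u ∧ C *ᵥ u = μ • u ∧
      α ^ 3 = 1 := by
    obtain ⟨u, hu, hsum, hcm⟩ := exists_components h3 hω hω1 (hpow' x) v
    obtain ⟨i, hi⟩ : ∃ i, u i ≠ 0 := by
      by_contra hall
      push Not at hall
      exact hv0 (by rw [hsum, hall 0, hall 1, hall 2, add_zero, add_zero])
    exact ⟨_, u i, hi, hu i, hcm C (hCcomm x) μ hv i,
      by rw [← pow_mul, mul_comm, pow_mul, hω, one_pow]⟩
  have hshift : ∀ (β : F) (z : Fin 3 → F), X *ᵥ z = β • z → C *ᵥ z = μ • z →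
      X *ᵥ (Y *ᵥ z) = (μ * β) • (Y *ᵥ z) ∧ C *ᵥ (Y *ᵥ z) = μ • (Y *ᵥ z) := by
    intro β z h1 h2
    have h4 : C *ᵥ (Y *ᵥ z) = μ • (Y *ᵥ z) := by rw [mulVec_mulVec, hCcomm, ← mulVec_mulVec, h2, mulVec_smul]
    refine ⟨?_, h4⟩
    rw [mulVec_mulVec, hXY, ← mulVec_mulVec, ← mulVec_mulVec, h1, mulVec_smul, mulVec_smul, h4,
      smul_smul, mul_comm]
  have hYinj : ∀ z, Y *ᵥ z = 0 → z = 0 := fun z h => by
    have := congrArg ((((y : GL (Fin 3) F)⁻¹ : GL (Fin 3) F) : Matrix (Fin 3) (Fin 3) F) *ᵥ ·) h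
    simpa [Y, mulVec_mulVec] using this
  have hμs := cube_root_sum hμ3 hμ
  -- start at eigenvalue one
  obtain ⟨u₀, hu00, hXu₀, hCu₀⟩ : ∃ u₀, u₀ ≠ 0 ∧ X *ᵥ u₀ = u₀ ∧ C *ᵥ u₀ = μ • u₀ := by
    obtain ⟨h1, h1'⟩ := hshift α u hu hCu
    obtain ⟨h2, h2'⟩ := hshift _ _ h1 h1'
    rcases eq_or_ne α 1 with rfl | ha
    · exact ⟨u, hu0, by rw [hu, one_smul], hCu⟩
    rcases eq_or_ne (μ * α) 1 with hb | hb
    · exact ⟨_, fun h => hu0 (hYinj _ h), by rw [h1, hb, one_smul], h1'⟩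
    · refine ⟨_, fun h => hu0 (hYinj _ (hYinj _ h)), ?_, h2'⟩
      have hαs := cube_root_sum hα ha
      have : μ * (μ * α) = 1 := by
        by_contra hc
        have e : (α - μ) * (α - μ ^ 2) = 0 := by linear_combination hαs - hμs * α - hμs + hμ3 + hμs
        rcases mul_eq_zero.1 e with e | e
        · exact hc (by rw [sub_eq_zero.1 e]; linear_combination hμ3)
        · exact hb (by rw [sub_eq_zero.1 e]; linear_combination hμ3)
      rw [h2, this, one_smul]
  obtain ⟨hX1, hC1'⟩ := hshift 1 u₀ (by rw [hXu₀, one_smul]) hCu₀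
  obtain ⟨hX2, hC2'⟩ := hshift _ _ hX1 hC1'
  let col : Fin 3 → (Fin 3 → F) := ![u₀, Y *ᵥ u₀, Y *ᵥ (Y *ᵥ u₀)]
  let ev : Fin 3 → F := ![1, μ, μ ^ 2]
  have hev : Function.Injective ev := by
    have h2 : μ ^ 2 ≠ 1 := fun e => hμ (by linear_combination hμ3 - μ * e)
    have h12 : μ ≠ μ ^ 2 := fun e => hμ (by linear_combination hμ3 + (1 + μ) * e)
    intro i j h
    fin_cases i <;> fin_cases j <;> first
      | rfl | exact absurd h hμ | exact absurd h.symm hμ | exact absurd h h2 | exact absurd h.symm h2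
      | exact absurd h h12 | exact absurd h.symm h12
  have hcol : ∀ i, X *ᵥ col i = ev i • col i ∧ C *ᵥ col i = μ • col i ∧ col i ≠ 0 := by
    intro i
    fin_cases i
    · exact ⟨by simp [col, ev, hXu₀], hCu₀, hu00⟩
    · exact ⟨by simpa [col, ev] using hX1, hC1', fun h => hu00 (hYinj _ h)⟩
    · exact ⟨by simpa [col, ev, pow_two] using hX2, hC2', fun h => hu00 (hYinj _ (hYinj _ h))⟩
  have hli : LinearIndependent F col :=
    Module.End.eigenvectors_linearIndependent' (Matrix.toLin' X) ev hev col fun i =>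
      Module.End.hasEigenvector_iff.2 ⟨Module.End.mem_eigenspace_iff.2 (by simpa using (hcol i).1), (hcol i).2.2⟩
  let Pm : Matrix (Fin 3) (Fin 3) F := Matrix.of fun i j => col j i
  have hPu : IsUnit Pm := Matrix.linearIndependent_cols_iff_isUnit.1 hli
  obtain ⟨P, hP⟩ := hPu
  have hmul : ∀ (M : Matrix (Fin 3) (Fin 3) F) (j : Fin 3), (fun i => (M * Pm) i j) = M *ᵥ col j := fun M j => rfl
  have haP : X * Pm = Pm * matA μ := by
    ext i j
    rw [congrFun (hmul X j) i, (hcol j).1, matA, Matrix.mul_diagonal]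
    simp [Pm, ev, mul_comm]
  have hbP : Y * Pm = Pm * matB F := by
    ext i j
    rw [congrFun (hmul Y j) i]
    fin_cases j <;> simp [Pm, matB, col, Matrix.mul_apply, Fin.sum_univ_three]
    rw [show Y * (Y * Y) = Y ^ 3 by rw [pow_three], hpow' y, one_mulVec]
  refine ⟨⟨μ, hμ3, hμ, x, y, c, x.2, y.2, c.2, ?_, ?_, P, by rw [hP]; exact haP, by rw [hP]; exact hbP⟩⟩
  · refine (Matrix.mul_left_injective_of_inv Pm ((P⁻¹ : GL (Fin 3) F) : Matrix (Fin 3) (Fin 3) F)
      (by rw [← hP, ← Units.val_mul, mul_inv_cancel, Units.val_one])) ?_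
    show C * Pm = (μ • (1 : Matrix (Fin 3) (Fin 3) F)) * Pm
    ext i j
    rw [congrFun (hmul C j) i, (hcol j).2.1, smul_mul, one_mul]
    rfl
  · set H := Subgroup.closure {(x : GL (Fin 3) F), (y : GL (Fin 3) F)}
    have hle : H ≤ R := by
      rw [Subgroup.closure_le]
      rintro _ (rfl | rfl)
      · exact x.2
      · exact y.2
    refine le_antisymm hle ?_
    by_contra hlt
    have hd := Subgroup.card_dvd_of_le hle
    rw [hR, show (27 : ℕ) = 3 ^ 3 by rfl, Nat.dvd_prime_pow Nat.prime_three] at hd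
    obtain ⟨j, hj, hjc⟩ := hd
    have : j ≠ 3 := by
      rintro rfl
      haveI : Finite R := ‹Finite R›
      exact hlt (Subgroup.eq_of_le_of_card_ge hle (by rw [hjc, hR]; norm_num)).ge
    have hcomm : IsMulCommutative H := by
      interval_cases j
      · haveI := (Nat.card_eq_one_iff_unique.1 (show Nat.card H = 1 from hjc.trans (pow_zero 3))).1
        exact ⟨⟨fun a b => Subsingleton.elim _ _⟩⟩
      · haveI : IsCyclic H := isCyclic_of_prime_card (p := 3) (hjc.trans (pow_one 3))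
        infer_instance
      · exact ⟨⟨IsPGroup.commutative_of_card_eq_prime_sq hjc⟩⟩
      · omega
    have hx : (x : GL (Fin 3) F) ∈ H := Subgroup.subset_closure (Or.inl rfl)
    have hy : (y : GL (Fin 3) F) ∈ H := Subgroup.subset_closure (Or.inr rfl)
    have h' := congrArg Subtype.val (mul_comm' (⟨_, hx⟩ : H) ⟨_, hy⟩)
    exact hxy (Subtype.ext h')

variable {R : Subgroup (GL (Fin 3) F)} (D : Frame R)

theorem Frame.mem_normalizer [Finite R] {g : GL (Fin 3) F} (ha : g * D.a * g⁻¹ ∈ R)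
    (hb : g * D.b * g⁻¹ ∈ R) : g ∈ Cfsg.Geo.subgroupNormalizer R := by
  have hle : R.map (MulAut.conj g).toMonoidHom ≤ R := by
    conv_lhs => rw [← D.closure_eq]
    rw [MonoidHom.map_closure, Subgroup.closure_le]
    rintro _ ⟨z, rfl | rfl, rfl⟩
    · exact ha
    · exact hb
  have heq : R.map (MulAut.conj g).toMonoidHom = R :=
    Subgroup.eq_of_le_of_card_ge hle
      (by rw [Nat.card_congr (R.equivMapOfInjective (MulAut.conj g).toMonoidHom (MulAut.conj g).injective).toEquiv])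
  show g ∈ Subgroup.normalizer (R : Set _)
  rw [Subgroup.mem_normalizer_iff]
  intro h
  conv_rhs => rw [← heq]
  exact (Subgroup.mem_map_iff_mem (MulAut.conj g).injective).symm

theorem Frame.conj_mem (g : GL (Fin 3) F) (M : Matrix (Fin 3) (Fin 3) F)
    (hg : (g : Matrix (Fin 3) (Fin 3) F) * D.P = D.P * M) (z : GL (Fin 3) F) (W : Matrix (Fin 3) (Fin 3) F)
    (hz : (z : Matrix (Fin 3) (Fin 3) F) * D.P = D.P * W) (l i j : ℕ)
    (h : M * W = (D.w ^ l • (matA D.w ^ i * matB F ^ j)) * M) : g * z * g⁻¹ ∈ R := by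
  have hpow : ∀ (q : GL (Fin 3) F) (Q : Matrix (Fin 3) (Fin 3) F),
      (q : Matrix (Fin 3) (Fin 3) F) * D.P = D.P * Q → ∀ k : ℕ,
      (q : Matrix (Fin 3) (Fin 3) F) ^ k * D.P = D.P * Q ^ k := by
    intro q Q h k
    exact (SemiconjBy.pow_right (a := (D.P : Matrix (Fin 3) (Fin 3) F)) h.symm k).eq.symm
  have e : g * z = D.c ^ l * (D.a ^ i * D.b ^ j) * g := by
    refine Units.ext ?_
    refine (Matrix.mul_left_injective_of_inv (D.P : Matrix (Fin 3) (Fin 3) F)
      ((D.P⁻¹ : GL (Fin 3) F) : Matrix (Fin 3) (Fin 3) F) (by rw [← Units.val_mul, mul_inv_cancel, Units.val_one])) ?_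
    simp only [Units.val_mul, Units.val_pow_eq_pow_val, D.coe_c, smul_pow, one_pow, smul_mul, one_mul]
    calc (g : Matrix (Fin 3) (Fin 3) F) * z * D.P = D.P * (M * W) := by
          rw [mul_assoc, hz, ← mul_assoc, hg, mul_assoc]
      _ = D.w ^ l • (D.P * (matA D.w ^ i * matB F ^ j * M)) := by
          rw [h, smul_mul, Matrix.mul_smul]
      _ = _ := by
          congr 1
          rw [← mul_assoc, ← mul_assoc, ← hpow _ _ D.a_eq i, mul_assoc _ (D.P : Matrix (Fin 3) (Fin 3) F),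
            ← hpow _ _ D.b_eq j, ← mul_assoc, mul_assoc _ (D.P : Matrix (Fin 3) (Fin 3) F) M, ← hg]
          simp only [mul_assoc]
  rw [e, mul_inv_cancel_right]
  exact mul_mem (pow_mem D.c_mem l) (mul_mem (pow_mem D.a_mem i) (pow_mem D.b_mem j))

/-- Diagonal matrices with cube roots of unity normalise `R`. -/
theorem Frame.diag_mem_normalizer [Finite R] (g : GL (Fin 3) F) (e : Fin 3 → Fin 3)
    (hg : (g : Matrix (Fin 3) (Fin 3) F) * D.P = D.P * Matrix.diagonal (fun k => D.w ^ (e k : ℕ))) :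
    g ∈ Cfsg.Geo.subgroupNormalizer R := by
  refine D.mem_normalizer (D.conj_mem g _ hg D.a _ D.a_eq 0 1 0 ?_) (D.conj_mem g _ hg D.b _ D.b_eq
    ((e 0 : ℕ) + 2 * (e 2 : ℕ)) ((e 0 : ℕ) + e 1 + e 2) 1 ?_)
  · simp [matA, Matrix.diagonal_mul_diagonal, mul_comm]
  · have hm := pow_cube_mod D.w_cube
    rw [pow_one, matA, Matrix.diagonal_pow]
    ext i j
    fin_cases i <;> fin_cases j <;>
      simp [matB, Matrix.mul_apply, Fin.sum_univ_three, Matrix.diagonal_apply] <;>
      simp only [← pow_add, ← pow_mul] <;>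
      rw [hm] <;> conv_rhs => rw [hm]
    all_goals (congr 1; omega)

/-- Minus the transposition normalises `R`. -/
theorem Frame.matT_mem_normalizer [Finite R] (g : GL (Fin 3) F)
    (hg : (g : Matrix (Fin 3) (Fin 3) F) * D.P = D.P * matT F) :
    g ∈ Cfsg.Geo.subgroupNormalizer R := by
  refine D.mem_normalizer (D.conj_mem g _ hg D.a _ D.a_eq 0 2 0 ?_) (D.conj_mem g _ hg D.b _ D.b_eq 0 0 2 ?_)
  · rw [matA, Matrix.diagonal_pow]
    ext i j
    fin_cases i <;> fin_cases j <;>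
      simp [matT, Matrix.mul_apply, Fin.sum_univ_three, Matrix.diagonal_apply, ← pow_mul]
    all_goals first
      | linear_combination (-2 * D.w) * D.w_cube
      | linear_combination (2 * D.w) * D.w_cube
      | linear_combination (-D.w) * D.w_cube
      | linear_combination D.w * D.w_cube
  · rw [pow_two]
    ext i j
    fin_cases i <;> fin_cases j <;> simp [matB, matT, Matrix.mul_apply, Fin.sum_univ_three]

/-- What commutes with `a` and `b` is scalar. -/
theorem Frame.scalar_of_commute {g : GL (Fin 3) F} (ha : g * D.a = D.a * g) (hb : g * D.b = D.b * g) :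
    ∃ s : F, (g : Matrix (Fin 3) (Fin 3) F) = s • 1 := by
  set M : Matrix (Fin 3) (Fin 3) F := ((D.P⁻¹ : GL (Fin 3) F) : Matrix (Fin 3) (Fin 3) F) * g * D.P
  have hgP : (g : Matrix (Fin 3) (Fin 3) F) * D.P = D.P * M := by
    simp only [M, ← mul_assoc, ← Units.val_mul, mul_inv_cancel, one_mul]
  have hcm : ∀ (z : GL (Fin 3) F) (W : Matrix (Fin 3) (Fin 3) F),
      (z : Matrix (Fin 3) (Fin 3) F) * D.P = D.P * W → g * z = z * g → M * W = W * M := by
    intro z W hz h
    refine D.P.isUnit.mul_left_cancel ?_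
    rw [← mul_assoc, ← hgP, mul_assoc, ← hz, ← mul_assoc, ← Units.val_mul, h, Units.val_mul, mul_assoc, hgP,
      ← mul_assoc, hz, mul_assoc]
  have h1 := hcm _ _ D.a_eq ha
  have h2 := hcm _ _ D.b_eq hb
  have hw2 : D.w ^ 2 ≠ 1 := fun e => D.w_ne (by linear_combination D.w_cube - D.w * e)
  have hw12 : D.w ≠ D.w ^ 2 := fun e => D.w_ne (by
    have h0 : D.w ≠ 0 := fun h => by simpa [h] using D.w_cube
    exact (mul_left_cancel₀ h0 (by rw [mul_one]; linear_combination e)).symm)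
  have hoff : ∀ i j, i ≠ j → M i j = 0 := by
    intro i j hij
    have h := congrFun (congrFun h1 i) j
    rw [matA, Matrix.mul_diagonal, Matrix.diagonal_mul] at h
    refine (mul_eq_zero.1 (show (![1, D.w, D.w ^ 2] j - ![1, D.w, D.w ^ 2] i) * M i j = 0 by
      linear_combination h)).resolve_left fun e => ?_
    rw [sub_eq_zero] at e
    fin_cases i <;> fin_cases j <;> first
      | exact hij rfl | exact D.w_ne e | exact D.w_ne e.symm | exact hw2 e | exact hw2 e.symm
      | exact hw12 e | exact hw12 e.symm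
  have e10 := congrFun (congrFun h2 1) 0
  have e21 := congrFun (congrFun h2 2) 1
  simp [matB, Matrix.mul_apply, Fin.sum_univ_three] at e10 e21
  obtain ⟨s, hM⟩ : ∃ s : F, M = s • (1 : Matrix (Fin 3) (Fin 3) F) := by
    refine ⟨M 0 0, ?_⟩
    ext i j
    fin_cases i <;> fin_cases j <;> simp [hoff, e10, e21]
  refine ⟨s, ?_⟩
  refine (Matrix.mul_left_injective_of_inv (D.P : Matrix (Fin 3) (Fin 3) F)
      ((D.P⁻¹ : GL (Fin 3) F) : Matrix (Fin 3) (Fin 3) F) (by rw [← Units.val_mul, mul_inv_cancel, Units.val_one])) ?_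
  show (g : Matrix (Fin 3) (Fin 3) F) * D.P = _
  rw [hgP, hM, Matrix.mul_smul, mul_one]
  simp

/-- A matrix whose eigenvectors span has a diagonalising basis. -/
theorem exists_diag {M : Matrix (Fin 3) (Fin 3) F} {S : Set F}
    (h : Submodule.span F {v : Fin 3 → F | ∃ μ ∈ S, M *ᵥ v = μ • v} = ⊤) :
    ∃ (Q : GL (Fin 3) F) (d : Fin 3 → F), (∀ i, d i ∈ S) ∧
      M * Q = (Q : Matrix (Fin 3) (Fin 3) F) * Matrix.diagonal d := by
  classical
  obtain ⟨b, hb, hspan, hli⟩ := exists_linearIndependent F {v : Fin 3 → F | ∃ μ ∈ S, M *ᵥ v = μ • v}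
  let B := Module.Basis.mk hli (by rw [Subtype.range_coe, hspan, h])
  let e := B.indexEquiv (Pi.basisFun F (Fin 3))
  choose μ hμS hμ using fun i => hb (e.symm i).2
  let Qm : Matrix (Fin 3) (Fin 3) F := Matrix.of fun i j => (e.symm j : Fin 3 → F) i
  have hli' : LinearIndependent F fun i => (e.symm i : Fin 3 → F) := hli.comp _ e.symm.injective
  obtain ⟨Q, hQ⟩ : IsUnit Qm := Matrix.linearIndependent_cols_iff_isUnit.1 hli'
  refine ⟨Q, μ, hμS, ?_⟩
  rw [hQ]
  ext i j
  rw [Matrix.mul_diagonal]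
  exact (congrFun (hμ j) i).trans (mul_comm _ _)

/-- Conjugation by an element of determinant one between matrices with the same diagonal form. -/
theorem exists_sl_conj {x y : GL (Fin 3) F} {d : Fin 3 → F} {Q Q' : GL (Fin 3) F}
    (hx : (x : Matrix (Fin 3) (Fin 3) F) * Q = (Q : Matrix (Fin 3) (Fin 3) F) * Matrix.diagonal d)
    (hy : (y : Matrix (Fin 3) (Fin 3) F) * Q' = (Q' : Matrix (Fin 3) (Fin 3) F) * Matrix.diagonal d) :
    ∃ g ∈ Cfsg.Geo.specialLinear (Fin 3) F, g⁻¹ * x * g = y := by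
  set s : F := (Q' : Matrix (Fin 3) (Fin 3) F).det * ((Q : Matrix (Fin 3) (Fin 3) F).det)⁻¹
  have hQd : ∀ Q : GL (Fin 3) F, (Q : Matrix (Fin 3) (Fin 3) F).det ≠ 0 := fun Q =>
    ((Matrix.isUnit_iff_isUnit_det _).1 Q.isUnit).ne_zero
  have hs : s ≠ 0 := mul_ne_zero (hQd _) (inv_ne_zero (hQd _))
  let S : GL (Fin 3) F := ⟨Matrix.diagonal ![s, 1, 1], Matrix.diagonal ![s⁻¹, 1, 1],
    by rw [Matrix.diagonal_mul_diagonal, ← Matrix.diagonal_one]; congr 1; funext i; fin_cases i <;> simp [hs],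
    by rw [Matrix.diagonal_mul_diagonal, ← Matrix.diagonal_one]; congr 1; funext i; fin_cases i <;> simp [hs]⟩
  refine ⟨Q * S * Q'⁻¹, ?_, ?_⟩
  · have hd : ((Q * S * Q'⁻¹ : GL (Fin 3) F) : Matrix (Fin 3) (Fin 3) F).det = 1 := by
      have h' : ((Q'⁻¹ : GL (Fin 3) F) : Matrix (Fin 3) (Fin 3) F).det = ((Q' : Matrix (Fin 3) (Fin 3) F).det)⁻¹ :=
        eq_inv_of_mul_eq_one_left (by rw [← Matrix.det_mul, ← Units.val_mul, inv_mul_cancel, Units.val_one, Matrix.det_one])
      rw [Units.val_mul, Units.val_mul, Matrix.det_mul, Matrix.det_mul, h']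
      simp only [S, Matrix.det_diagonal, Fin.prod_univ_three, Matrix.cons_val_zero, Matrix.cons_val_one,
        Matrix.cons_val, mul_one, s]
      field_simp [hQd Q, hQd Q']
    show Matrix.GeneralLinearGroup.det _ = 1
    exact Units.ext hd
  · rw [mul_assoc, inv_mul_eq_iff_eq_mul]
    refine Units.ext ?_
    refine (Matrix.mul_left_injective_of_inv (Q' : Matrix (Fin 3) (Fin 3) F)
      ((Q'⁻¹ : GL (Fin 3) F) : Matrix (Fin 3) (Fin 3) F) (by rw [← Units.val_mul, mul_inv_cancel, Units.val_one])) ?_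
    have hcancel : ((Q'⁻¹ : GL (Fin 3) F) : Matrix (Fin 3) (Fin 3) F) * Q' = 1 := Units.inv_mul Q'
    have hSd : (S : Matrix (Fin 3) (Fin 3) F) * Matrix.diagonal d = Matrix.diagonal d * S := by
      rw [show (S : Matrix (Fin 3) (Fin 3) F) = Matrix.diagonal ![s, 1, 1] from rfl,
        Matrix.diagonal_mul_diagonal, Matrix.diagonal_mul_diagonal]
      simp [mul_comm]
    simp only [Units.val_mul, mul_assoc]
    rw [hy, hcancel, mul_one, ← mul_assoc (x : Matrix (Fin 3) (Fin 3) F), hx, mul_assoc, ← hSd,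
      ← mul_assoc ((Q'⁻¹ : GL (Fin 3) F) : Matrix (Fin 3) (Fin 3) F), hcancel, one_mul]

end CfsgLib.ExtraThree
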