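import Cfsg.Agent.Lib.ExtraThree.Basic
import Mathlib.RingTheory.RootsOfUnity.PrimitiveRoots

/-!
Elements of prime order at least five normalising `R` are scalar; diagonal forms of elements of order two and three.
-/

set_option autoImplicit false
set_option linter.unusedSectionVars false

namespace CfsgLib.ExtraThree

open Matrix
open scoped MatrixGroups

variable {F : Type*} [Field F] {R : Subgroup (GL (Fin 3) F)}

theorem Frame.scalar_of_prime_order (D : Frame R) (hR : Nat.card R = 27) {r : ℕ} (hr : r.Prime)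
    (hr5 : 5 ≤ r) {y : GL (Fin 3) F} (hy : y ∈ Cfsg.Geo.subgroupNormalizer R) (hyr : y ^ r = 1) :
    ∃ s : F, (y : Matrix (Fin 3) (Fin 3) F) = s • 1 := by
  classical
  haveI := Fact.mk hr
  haveI : Finite R := Nat.finite_of_card_ne_zero (by omega)
  have hyn : ∀ h ∈ Subgroup.zpowers y, ∀ u ∈ R, h * u * h⁻¹ ∈ R := fun h hh u hu =>
    (Subgroup.mem_normalizer_iff.1 (Subgroup.zpowers_le.2 hy hh) u).1 hu
  let act : MulAction (Subgroup.zpowers y) R :=
    { smul := fun h u => ⟨(h : GL (Fin 3) F) * u * (h : GL (Fin 3) F)⁻¹, hyn _ h.2 _ u.2⟩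
      one_smul := fun u => Subtype.ext (show (1 : GL (Fin 3) F) * u * 1⁻¹ = _ by simp)
      mul_smul := fun g h u => Subtype.ext (show ((g : GL (Fin 3) F) * h) * u * ((g : GL (Fin 3) F) * h)⁻¹ =
        (g : GL (Fin 3) F) * ((h : GL (Fin 3) F) * u * (h : GL (Fin 3) F)⁻¹) * (g : GL (Fin 3) F)⁻¹ by group) }
  have hpg : IsPGroup r (Subgroup.zpowers y) := fun ⟨h, hh⟩ => ⟨1, Subtype.ext (by
    obtain ⟨k, rfl⟩ := Subgroup.mem_zpowers_iff.1 hh
    show (y ^ k) ^ r ^ 1 = 1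
    rw [pow_one, ← zpow_natCast, ← _root_.zpow_mul, mul_comm, _root_.zpow_mul, zpow_natCast, hyr,
      _root_.one_zpow])⟩
  have hmod := hpg.card_modEq_card_fixedPoints R
  let C := R ⊓ Subgroup.centralizer ({y} : Set (GL (Fin 3) F))
  have hfix : Nat.card (MulAction.fixedPoints (Subgroup.zpowers y) R) = Nat.card C := by
    refine Nat.card_congr ?_
    refine ⟨fun u => ⟨u.1.1, u.1.2, ?_⟩, fun u => ⟨⟨u.1, u.2.1⟩, ?_⟩, fun u => rfl, fun u => rfl⟩
    · show (u.1 : GL (Fin 3) F) ∈ Subgroup.centralizer _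
      rw [Subgroup.mem_centralizer_iff]
      intro z hz
      rw [Set.mem_singleton_iff.1 hz]
      have h := congrArg Subtype.val (u.2 ⟨y, Subgroup.mem_zpowers y⟩)
      exact mul_inv_eq_iff_eq_mul.1 h
    · rintro ⟨h, hh⟩
      refine Subtype.ext ?_
      show h * u.1 * h⁻¹ = u.1
      obtain ⟨k, rfl⟩ := Subgroup.mem_zpowers_iff.1 hh
      have hc : Commute y u.1 := Subgroup.mem_centralizer_iff.1 u.2.2 y rfl
      rw [(hc.zpow_left k).eq, mul_inv_cancel_right]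
  rw [hfix, hR] at hmod
  have hCle : C ≤ R := inf_le_left
  have hdvd := Subgroup.card_dvd_of_le hCle
  rw [hR, show (27 : ℕ) = 3 ^ 3 by rfl, Nat.dvd_prime_pow Nat.prime_three] at hdvd
  obtain ⟨j, hj, hjc⟩ := hdvd
  rw [hjc] at hmod
  have hc : D.c ∈ C := ⟨D.c_mem, Subgroup.mem_centralizer_iff.2 fun _ h => by
    obtain rfl := h
    refine Units.ext ?_
    simp [D.coe_c]⟩
  have hj0 : j ≠ 0 := by
    rintro rfl
    haveI := (Nat.card_eq_one_iff_unique.1 (hjc.trans (pow_zero 3))).1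
    have h := congrArg Subtype.val (Subsingleton.elim (⟨D.c, hc⟩ : C) 1)
    have h' : (D.c : Matrix (Fin 3) (Fin 3) F) 0 0 = (1 : Matrix (Fin 3) (Fin 3) F) 0 0 := by
      rw [show D.c = 1 from h, Units.val_one]
    rw [D.coe_c] at h'
    simp at h'
    exact D.w_ne h'
  have hjR : C = R := by
    refine Subgroup.eq_of_le_of_card_ge hCle ?_
    rw [hjc, hR]
    by_contra hlt
    have hd := (Nat.modEq_iff_dvd' (by omega)).1 hmod.symm
    interval_cases j
    · exact absurd rfl hj0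
    · have : r ∣ 2 ^ 3 * 3 := hd
      rcases hr.dvd_mul.1 this with h | h
      · have := Nat.le_of_dvd (by norm_num) (hr.dvd_of_dvd_pow h); omega
      · have := Nat.le_of_dvd (by norm_num) h; omega
    · have : r ∣ 3 ^ 2 * 2 := hd
      rcases hr.dvd_mul.1 this with h | h
      · have := Nat.le_of_dvd (by norm_num) (hr.dvd_of_dvd_pow h); omega
      · have := Nat.le_of_dvd (by norm_num) h; omega
    · omega
  have hcy : ∀ u ∈ R, y * u = u * y := fun u hu =>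
    Subgroup.mem_centralizer_iff.1 (hjR ▸ hu : u ∈ C).2 y rfl
  exact D.scalar_of_commute (hcy _ D.a_mem) (hcy _ D.b_mem)

theorem isPrimitiveRoot_three {w : F} (hw : w ^ 3 = 1) (hw1 : w ≠ 1) : IsPrimitiveRoot w 3 :=
  haveI := Fact.mk Nat.prime_three
  orderOf_eq_prime hw hw1 ▸ IsPrimitiveRoot.orderOf w

theorem scalar_diag {M : Matrix (Fin 3) (Fin 3) F} {Q : GL (Fin 3) F} {d : Fin 3 → F} {s : F}
    (h : M * Q = (Q : Matrix (Fin 3) (Fin 3) F) * Matrix.diagonal d) (hd : ∀ i, d i = s) : M = s • 1 := by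
  have e : Matrix.diagonal d = s • (1 : Matrix (Fin 3) (Fin 3) F) := by
    rw [Matrix.smul_one_eq_diagonal]; congr 1; funext i; exact hd i
  rw [e, Matrix.mul_smul, mul_one] at h
  have := congrArg (fun A => A * ((Q⁻¹ : GL (Fin 3) F) : Matrix (Fin 3) (Fin 3) F)) h
  simpa [mul_assoc] using this

theorem Frame.smul_mem_normalizer (_D : Frame R) {g : GL (Fin 3) F} (hg : g ∈ Cfsg.Geo.subgroupNormalizer R)
    {t : F} (ht : t ≠ 0) {y : GL (Fin 3) F}
    (hy : (y : Matrix (Fin 3) (Fin 3) F) = t • (g : Matrix (Fin 3) (Fin 3) F)) :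
    y ∈ Cfsg.Geo.subgroupNormalizer R := by
  have hs : y * g⁻¹ ∈ Cfsg.Geo.subgroupNormalizer R := by
    refine Subgroup.centralizer_le_normalizer _ (Subgroup.mem_centralizer_iff.2 fun u _ => Units.ext ?_)
    simp only [Units.val_mul, hy, smul_mul, Units.mul_inv, Matrix.mul_smul, mul_one, one_mul]
  simpa using mul_mem hs hg

theorem diag_two (h2 : (2 : F) ≠ 0) {Y : Matrix (Fin 3) (Fin 3) F} (hY : Y ^ 2 = 1) :
    ∃ (Q : GL (Fin 3) F) (d : Fin 3 → F), (∀ i, d i ∈ ({1, -1} : Set F)) ∧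
      Y * Q = (Q : Matrix (Fin 3) (Fin 3) F) * Matrix.diagonal d := by
  refine exists_diag (Submodule.eq_top_iff'.2 fun v => ?_)
  have hYY : Y *ᵥ (Y *ᵥ v) = v := by rw [mulVec_mulVec, ← pow_two, hY, one_mulVec]
  have e : v = (2 : F)⁻¹ • (v + Y *ᵥ v) + (2 : F)⁻¹ • (v - Y *ᵥ v) := by
    rw [← smul_add, eq_inv_smul_iff₀ h2, two_smul]; abel
  rw [e]
  refine add_mem (Submodule.smul_mem _ _ (Submodule.subset_span ⟨1, Or.inl rfl, ?_⟩))
    (Submodule.smul_mem _ _ (Submodule.subset_span ⟨-1, Or.inr rfl, ?_⟩))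
  · rw [one_smul, mulVec_add, hYY, add_comm]
  · rw [mulVec_sub, hYY, neg_one_smul, neg_sub]

theorem diag_three (h3 : (3 : F) ≠ 0) {w : F} (hw : w ^ 3 = 1) (hw1 : w ≠ 1)
    {Y : Matrix (Fin 3) (Fin 3) F} (hY : Y ^ 3 = 1) :
    ∃ (Q : GL (Fin 3) F) (e : Fin 3 → Fin 3),
      Y * Q = (Q : Matrix (Fin 3) (Fin 3) F) * Matrix.diagonal fun i => w ^ (e i : ℕ) := by
  obtain ⟨Q, d, hd, hQ⟩ := exists_diag (S := {μ | μ ^ 3 = 1}) (M := Y) (Submodule.eq_top_iff'.2 fun v => by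
    obtain ⟨u, hu, hsum, -⟩ := exists_components h3 hw hw1 hY v
    have hm : ∀ i, u i ∈ Submodule.span F {v : Fin 3 → F | ∃ μ ∈ {μ : F | μ ^ 3 = 1}, Y *ᵥ v = μ • v} :=
      fun i => Submodule.subset_span ⟨w ^ (i : ℕ), show (w ^ (i : ℕ)) ^ 3 = 1 by
        rw [← pow_mul, mul_comm, pow_mul, hw, one_pow], hu i⟩
    rw [hsum]
    exact add_mem (add_mem (hm 0) (hm 1)) (hm 2))
  choose k hk hkd using fun i => (isPrimitiveRoot_three hw hw1).eq_pow_of_pow_eq_one (hd i)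
  refine ⟨Q, fun i => ⟨k i, hk i⟩, ?_⟩
  rw [hQ]
  congr 2
  funext i
  exact (hkd i).symm

end CfsgLib.ExtraThree
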