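import Cfsg.Agent.Lib.ExtraThree.Fixers
import Cfsg.Agent.Lib.Classical.HermOrder

/-!
Orthonormal eigenbases of semisimple unitary matrices and unitary coordinates for `R`.
-/

set_option autoImplicit false
set_option linter.unusedSectionVars false

namespace CfsgLib.ExtraThree

open Matrix CfsgLib.Classical
open scoped MatrixGroups

variable {F : Type*} [Field F] [Fintype F] {q n : ℕ} (hF : Fintype.card F = q ^ 2)

theorem mem_GU_iff {g : GL (Fin n) F} : g ∈ Cfsg.GU n F q ↔
    ∀ u v, hermB hF n ((g : Matrix (Fin n) (Fin n) F) *ᵥ u) ((g : Matrix (Fin n) (Fin n) F) *ᵥ v) =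
      hermB hF n u v := by
  simp only [hermB_apply]
  exact ⟨fun h u v => h v u, fun h u v => h v u⟩

theorem hermB_single (i j : Fin n) :
    hermB hF n (Pi.single i 1) (Pi.single j 1) = if i = j then 1 else 0 := by
  classical
  simp only [hermB, LinearMap.mk₂'ₛₗ_apply, Pi.single_apply]
  rw [Finset.sum_eq_single j (fun k _ hk => by simp [hk]) (by simp)]
  by_cases h : i = j
  · simp [h]
  · simp [h, Ne.symm h]

theorem mulVec_eq_sum_col (M : Matrix (Fin n) (Fin n) F) (u : Fin n → F) :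
    M *ᵥ u = ∑ i, u i • (M *ᵥ Pi.single i 1) := by
  conv_lhs => rw [pi_eq_sum_univ' u, Matrix.mulVec_sum]
  exact Finset.sum_congr rfl fun i _ => Matrix.mulVec_smul _ _ _

theorem preserves_of_cols {M : Matrix (Fin n) (Fin n) F}
    (h : ∀ i j, hermB hF n (M *ᵥ Pi.single i 1) (M *ᵥ Pi.single j 1) = if i = j then 1 else 0) (u v : Fin n → F) :
    hermB hF n (M *ᵥ u) (M *ᵥ v) = hermB hF n u v := by
  rw [mulVec_eq_sum_col M u, mulVec_eq_sum_col M v]
  conv_rhs => rw [pi_eq_sum_univ' u, pi_eq_sum_univ' v]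
  simp only [map_sum, LinearMap.sum_apply, map_smulₛₗ, LinearMap.smul_apply, RingHom.id_apply, h, hermB_single]

theorem exists_gl_of_cols {M : Matrix (Fin n) (Fin n) F}
    (h : ∀ i j, hermB hF n (M *ᵥ Pi.single i 1) (M *ᵥ Pi.single j 1) = if i = j then 1 else 0) :
    ∃ g : GL (Fin n) F, g ∈ Cfsg.GU n F q ∧ (g : Matrix (Fin n) (Fin n) F) = M := by
  have hu : IsUnit M := Matrix.mulVec_injective_iff_isUnit.1 fun u v huv => by
    refine sub_eq_zero.1 (hermB_sep hF _ fun w => ?_)
    rw [← preserves_of_cols hF h, Matrix.mulVec_sub, huv, sub_self, map_zero, LinearMap.zero_apply]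
  obtain ⟨g, hg⟩ := hu
  exact ⟨g, (mem_GU_iff hF).2 fun u v => by rw [hg]; exact preserves_of_cols hF h u v, hg⟩

theorem hermB_smul_smul (a b : F) (u v : Fin n → F) :
    hermB hF n (a • u) (b • v) = qFrob hF a * b * hermB hF n u v := by
  simp only [map_smulₛₗ, LinearMap.smul_apply, RingHom.id_apply, smul_eq_mul]
  ring

theorem exists_diagonal_mem_GU {d : Fin n → F} (hd : ∀ i, qFrob hF (d i) * d i = 1) :
    ∃ g : GL (Fin n) F, g ∈ Cfsg.GU n F q ∧ (g : Matrix (Fin n) (Fin n) F) = Matrix.diagonal d := by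
  classical
  refine exists_gl_of_cols hF fun i j => ?_
  have e : ∀ i, Matrix.diagonal d *ᵥ Pi.single i 1 = d i • (Pi.single i 1 : Fin n → F) := fun i => by
    rw [Matrix.diagonal_mulVec_single, mul_one, ← Pi.single_smul', smul_eq_mul, mul_one]
  rw [e, e, hermB_smul_smul, hermB_single]
  by_cases h : i = j
  · subst h; simp [hd]
  · simp [h]

theorem smul_mem_GU {g h : GL (Fin n) F} {t : F} (ht : qFrob hF t * t = 1) (hh : h ∈ Cfsg.GU n F q)
    (e : (g : Matrix (Fin n) (Fin n) F) = t • (h : Matrix (Fin n) (Fin n) F)) : g ∈ Cfsg.GU n F q := by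
  rw [mem_GU_iff hF] at hh ⊢
  intro u v
  rw [e, Matrix.smul_mulVec, Matrix.smul_mulVec, hermB_smul_smul, hh, ht, one_mul]

theorem qFrob_det_mul_det {g : GL (Fin n) F} (hg : g ∈ Cfsg.GU n F q) :
    qFrob hF (g : Matrix (Fin n) (Fin n) F).det * (g : Matrix (Fin n) (Fin n) F).det = 1 := by
  classical
  have e : ((g : Matrix (Fin n) (Fin n) F).map (qFrob hF))ᵀ * (g : Matrix (Fin n) (Fin n) F) = 1 := by
    ext i j
    have h := (mem_GU_iff hF).1 hg (Pi.single i 1) (Pi.single j 1)
    rw [hermB_single, Matrix.mulVec_single_one, Matrix.mulVec_single_one] at h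
    rw [Matrix.mul_apply, Matrix.one_apply, ← h]
    simp [hermB, Matrix.col, mul_comm]
  have := congrArg Matrix.det e
  rw [Matrix.det_mul, Matrix.det_transpose, Matrix.det_one] at this
  rwa [RingHom.map_det]

theorem exists_norm_root {a : F} (ha : a ≠ 0) (h : qFrob hF a = a) : ∃ c : F, c ≠ 0 ∧ qFrob hF c * c = a := by
  rw [qFrob_apply] at h
  obtain ⟨⟨c, hc⟩⟩ := (Nat.card_pos_iff.1 (by rw [card_norm_fibre hF ha h]; omega) :
    Nonempty {x : F // x ^ (q + 1) = a} ∧ _).1
  refine ⟨c, ?_, by rw [qFrob_apply, ← pow_succ, hc]⟩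
  rintro rfl
  simp at hc
  exact ha hc.symm

/-- A unitary matrix diagonalisable with norm-one eigenvalues has an orthonormal eigenbasis. -/
theorem exists_unitary_diag {M : Matrix (Fin n) (Fin n) F}
    (hM : ∀ u v, hermB hF n (M *ᵥ u) (M *ᵥ v) = hermB hF n u v) {Q : GL (Fin n) F} {d : Fin n → F}
    (hd : ∀ i, qFrob hF (d i) * d i = 1)
    (hQ : M * Q = (Q : Matrix (Fin n) (Fin n) F) * Matrix.diagonal d) :
    ∃ Q' : GL (Fin n) F, Q' ∈ Cfsg.GU n F q ∧ ∃ d' : Fin n → F, (∀ i, d' i ∈ Set.range d) ∧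
      M * Q' = (Q' : Matrix (Fin n) (Fin n) F) * Matrix.diagonal d' := by
  classical
  have hcol : ∀ i, M *ᵥ ((Q : Matrix (Fin n) (Fin n) F) *ᵥ Pi.single i 1) =
      d i • ((Q : Matrix (Fin n) (Fin n) F) *ᵥ Pi.single i 1) := fun i => by
    rw [mulVec_mulVec, hQ, ← mulVec_mulVec, Matrix.diagonal_mulVec_single, mul_one, ← Matrix.mulVec_smul,
      ← Pi.single_smul', smul_eq_mul, mul_one]
  have horth : ∀ (μ ν : F) (u v : Fin n → F), μ ∈ Set.range d → M *ᵥ u = μ • u → M *ᵥ v = ν • v →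
      μ ≠ ν → hermB hF n u v = 0 := by
    rintro _ ν u v ⟨i, rfl⟩ hu hv hne
    have h := hM u v
    rw [hu, hv, hermB_smul_smul] at h
    by_contra h0
    have h1 : qFrob hF (d i) * ν = 1 := mul_right_cancel₀ h0 (h.trans (one_mul _).symm)
    exact hne (mul_left_cancel₀ (fun e => by simp [e] at h1) ((hd i).trans h1.symm))
  obtain ⟨c, hc⟩ : ∃ c, qFrob hF c ≠ c := by
    by_contra hall
    push Not at hall
    exact qFrob_ne_id hF (RingHom.ext hall)
  have key : ∀ m, m ≤ n → ∃ (b : Fin m → Fin n → F) (μ : Fin m → F), (∀ i, μ i ∈ Set.range d) ∧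
      (∀ i, M *ᵥ b i = μ i • b i) ∧ ∀ i j, hermB hF n (b i) (b j) = if i = j then 1 else 0 := by
    intro m
    induction m with
    | zero => exact fun _ => ⟨Fin.elim0, Fin.elim0, fun i => i.elim0, fun i => i.elim0, fun i => i.elim0⟩
    | succ m ih =>
      intro hm
      obtain ⟨b, μ, hμ, hb, hon⟩ := ih (by omega)
      let pr : (Fin n → F) → Fin n → F := fun v => v - ∑ i, hermB hF n (b i) v • b i
      have hpr : ∀ v j, hermB hF n (b j) (pr v) = 0 := fun v j => by
        simp [pr, map_sum, hon]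
      have hpre : ∀ (ν : F) v, M *ᵥ v = ν • v → M *ᵥ pr v = ν • pr v := fun ν v hv => by
        simp only [pr, Matrix.mulVec_sub, Matrix.mulVec_sum, Matrix.mulVec_smul, hb, hv]
        rw [smul_sub, Finset.smul_sum]
        congr 1
        refine Finset.sum_congr rfl fun i _ => ?_
        by_cases h : μ i = ν
        · rw [h, smul_comm]
        · rw [horth _ _ _ _ (hμ i) (hb i) hv h, zero_smul, zero_smul, smul_zero]
      obtain ⟨ν, w, hν, hw, hwb, hww⟩ : ∃ ν w, ν ∈ Set.range d ∧ M *ᵥ w = ν • w ∧ (∀ j, hermB hF n (b j) w = 0) ∧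
          hermB hF n w w ≠ 0 := by
        by_contra hall
        push Not at hall
        have hzero : ∀ i, pr ((Q : Matrix (Fin n) (Fin n) F) *ᵥ Pi.single i 1) = 0 := by
          intro i
          set v := (Q : Matrix (Fin n) (Fin n) F) *ᵥ Pi.single i 1
          refine hermB_sep hF _ fun u => ?_
          obtain ⟨u, rfl⟩ : ∃ u', u = (Q : Matrix (Fin n) (Fin n) F) *ᵥ u' :=
            ⟨((Q⁻¹ : GL (Fin n) F) : Matrix (Fin n) (Fin n) F) *ᵥ u, by
              rw [mulVec_mulVec, Units.mul_inv, one_mulVec]⟩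
          rw [mulVec_eq_sum_col, map_sum]
          refine Finset.sum_eq_zero fun j _ => ?_
          set v' := (Q : Matrix (Fin n) (Fin n) F) *ᵥ Pi.single j 1
          rw [map_smul]
          have hv := hpre _ _ (hcol i)
          have hv' := hpre _ _ (hcol j)
          have hsplit : v' = pr v' + ∑ k, hermB hF n (b k) v' • b k := (sub_add_cancel _ _).symm
          rw [hsplit, map_add, map_sum]
          have hb0 : ∀ k, hermB hF n (pr v) (b k) = 0 := fun k => by
            rw [← hermB_conj hF, hpr, map_zero]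
          simp only [map_smul, hb0, smul_zero, Finset.sum_const_zero, add_zero]
          by_cases h : d i = d j
          · have hd0 : ∀ k ∈ ({1, c} : Set F), qFrob hF k * hermB hF n (pr v) (pr v') + k * hermB hF n (pr v') (pr v) = 0 := by
              intro k _
              have h0 := hall (d i) (k • pr v + pr v') ⟨i, rfl⟩
                (by rw [Matrix.mulVec_add, Matrix.mulVec_smul, hv, hv', h, smul_add, smul_comm])
                (fun l => by rw [map_add, map_smul, hpr, hpr, smul_zero, add_zero])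
              have h1 := hall (d i) (pr v) ⟨i, rfl⟩ hv (hpr v)
              have h2 := hall (d i) (pr v') ⟨i, rfl⟩ (by rw [hv', h]) (hpr v')
              simp only [map_add, map_smulₛₗ, LinearMap.add_apply, LinearMap.smul_apply, smul_eq_mul,
                RingHom.id_apply, h1, h2] at h0
              linear_combination h0
            have e1 := hd0 1 (Or.inl rfl)
            rw [map_one] at e1
            have e2 : (qFrob hF c - c) * hermB hF n (pr v) (pr v') = 0 := by linear_combination hd0 c (Or.inr rfl) - c * e1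
            rw [(mul_eq_zero.1 e2).resolve_left (sub_ne_zero.2 hc), smul_zero]
          · rw [horth _ _ _ _ ⟨i, rfl⟩ hv hv' h, smul_zero]
        have htop : (⊤ : Submodule F (Fin n → F)) ≤ Submodule.span F (Set.range b) := by
          intro u _
          rw [show u = (Q : Matrix (Fin n) (Fin n) F) *ᵥ (((Q⁻¹ : GL (Fin n) F) : Matrix (Fin n) (Fin n) F) *ᵥ u) by
            rw [mulVec_mulVec, Units.mul_inv, one_mulVec], mulVec_eq_sum_col]
          refine sum_mem fun i _ => Submodule.smul_mem _ _ ?_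
          rw [sub_eq_zero.1 (hzero i)]
          exact sum_mem fun k _ => Submodule.smul_mem _ _ (Submodule.subset_span ⟨k, rfl⟩)
        have h1 := Submodule.finrank_mono htop
        rw [finrank_top, Module.finrank_fin_fun] at h1
        have h2 : Module.finrank F (Submodule.span F (Set.range b)) ≤ Fintype.card (Fin m) :=
          finrank_range_le_card b
        rw [Fintype.card_fin] at h2
        omega
      obtain ⟨k, hk0, hk⟩ := exists_norm_root hF hww (hermB_conj hF w w)
      have hwb' : ∀ j, hermB hF n w (b j) = 0 := fun j => by rw [← hermB_conj hF, hwb, map_zero]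
      refine ⟨Fin.cons (k⁻¹ • w) b, Fin.cons ν μ, fun i => ?_, fun i => ?_, fun i j => ?_⟩
      · exact Fin.cases hν hμ i
      · refine Fin.cases ?_ (fun i => by simpa using hb i) i
        rw [Fin.cons_zero, Fin.cons_zero, Matrix.mulVec_smul, hw, smul_comm]
      · refine Fin.cases ?_ (fun i => ?_) i <;> refine Fin.cases ?_ (fun j => ?_) j
        · simp only [Fin.cons_zero, if_true, hermB_smul_smul]
          have hσk : qFrob hF k ≠ 0 := (map_ne_zero _).2 hk0
          rw [map_inv₀]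
          field_simp
          linear_combination -hk
        · simp [hwb', (Fin.succ_ne_zero j).symm]
        · simp [hwb, Fin.succ_ne_zero]
        · simp [hon, Fin.succ_inj]
  obtain ⟨b, μ, hμ, hb, hon⟩ := key n le_rfl
  let Q' : Matrix (Fin n) (Fin n) F := Matrix.of fun i j => b j i
  have hQ' : ∀ i, Q' *ᵥ Pi.single i 1 = b i := fun i => Matrix.mulVec_single_one _ _
  obtain ⟨g, hg, hge⟩ := exists_gl_of_cols hF (M := Q') fun i j => by rw [hQ', hQ']; exact hon i j
  refine ⟨g, hg, μ, hμ, ?_⟩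
  rw [hge]
  ext i j
  rw [Matrix.mul_diagonal]
  exact (congrFun (hb j) i).trans (mul_comm _ _)

include hF in
/-- Reordering an orthonormal eigenbasis. -/
theorem exists_perm_diag {M : Matrix (Fin n) (Fin n) F} {Q : GL (Fin n) F} (hQU : Q ∈ Cfsg.GU n F q)
    {d : Fin n → F} (hQ : M * Q = (Q : Matrix (Fin n) (Fin n) F) * Matrix.diagonal d) (π : Equiv.Perm (Fin n)) :
    ∃ Q' : GL (Fin n) F, Q' ∈ Cfsg.GU n F q ∧
      M * Q' = (Q' : Matrix (Fin n) (Fin n) F) * Matrix.diagonal (d ∘ π) := by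
  classical
  have e : ∀ i, (Q : Matrix (Fin n) (Fin n) F).submatrix id π *ᵥ Pi.single i 1 =
      (Q : Matrix (Fin n) (Fin n) F) *ᵥ Pi.single (π i) 1 := fun i => by
    rw [Matrix.mulVec_single_one, Matrix.mulVec_single_one]; rfl
  obtain ⟨g, hg, hge⟩ := exists_gl_of_cols hF (M := (Q : Matrix (Fin n) (Fin n) F).submatrix id π) fun i j => by
    rw [e, e, (mem_GU_iff hF).1 hQU, hermB_single]
    simp [π.injective.eq_iff]
  refine ⟨g, hg, ?_⟩
  rw [hge]
  ext i j
  rw [Matrix.mul_diagonal]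
  have h := congrFun (congrFun hQ i) (π j)
  rw [Matrix.mul_diagonal] at h
  exact h

/-- Unitary matrices of determinant one conjugate two elements with the same unitary diagonal form. -/
theorem exists_su_conj {x y : GL (Fin 3) F} {d : Fin 3 → F} {Q Q' : GL (Fin 3) F} (hF : Fintype.card F = q ^ 2)
    (hQU : Q ∈ Cfsg.GU 3 F q) (hQU' : Q' ∈ Cfsg.GU 3 F q)
    (hx : (x : Matrix (Fin 3) (Fin 3) F) * Q = (Q : Matrix (Fin 3) (Fin 3) F) * Matrix.diagonal d)
    (hy : (y : Matrix (Fin 3) (Fin 3) F) * Q' = (Q' : Matrix (Fin 3) (Fin 3) F) * Matrix.diagonal d) :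
    ∃ g ∈ Cfsg.GU 3 F q ⊓ Cfsg.Geo.specialLinear (Fin 3) F, g⁻¹ * x * g = y := by
  have hQd : ∀ Q : GL (Fin 3) F, (Q : Matrix (Fin 3) (Fin 3) F).det ≠ 0 := fun Q =>
    ((Matrix.isUnit_iff_isUnit_det _).1 Q.isUnit).ne_zero
  set s : F := (Q' : Matrix (Fin 3) (Fin 3) F).det * ((Q : Matrix (Fin 3) (Fin 3) F).det)⁻¹
  have hs : qFrob hF s * s = 1 := by
    rw [map_mul, map_inv₀, mul_mul_mul_comm, qFrob_det_mul_det hF hQU', ← mul_inv, qFrob_det_mul_det hF hQU,
      inv_one, one_mul]
  obtain ⟨S, hSU, hS⟩ := exists_diagonal_mem_GU hF (d := ![s, 1, 1]) fun i => by fin_cases i <;> simp [hs]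
  refine ⟨Q * S * Q'⁻¹, ⟨Subgroup.mul_mem _ (Subgroup.mul_mem _ hQU hSU) (Subgroup.inv_mem _ hQU'), ?_⟩, ?_⟩
  · have hd : ((Q * S * Q'⁻¹ : GL (Fin 3) F) : Matrix (Fin 3) (Fin 3) F).det = 1 := by
      have h' : ((Q'⁻¹ : GL (Fin 3) F) : Matrix (Fin 3) (Fin 3) F).det = ((Q' : Matrix (Fin 3) (Fin 3) F).det)⁻¹ :=
        eq_inv_of_mul_eq_one_left (by rw [← Matrix.det_mul, ← Units.val_mul, inv_mul_cancel, Units.val_one, Matrix.det_one])
      rw [Units.val_mul, Units.val_mul, Matrix.det_mul, Matrix.det_mul, h', hS]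
      simp only [Matrix.det_diagonal, Fin.prod_univ_three, Matrix.cons_val_zero, Matrix.cons_val_one,
        Matrix.cons_val, mul_one, s]
      field_simp [hQd Q, hQd Q']
    show Matrix.GeneralLinearGroup.det _ = 1
    exact Units.ext hd
  · rw [mul_assoc, inv_mul_eq_iff_eq_mul]
    refine Units.ext ?_
    refine (Matrix.mul_left_injective_of_inv (Q' : Matrix (Fin 3) (Fin 3) F)
      ((Q'⁻¹ : GL (Fin 3) F) : Matrix (Fin 3) (Fin 3) F) (by rw [← Units.val_mul, mul_inv_cancel, Units.val_one])) ?_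
    have hcancel : ((Q'⁻¹ : GL (Fin 3) F) : Matrix (Fin 3) (Fin 3) F) * Q' = 1 := Units.inv_mul Q'
    have hSd : (S : Matrix (Fin 3) (Fin 3) F) * Matrix.diagonal d = Matrix.diagonal d * S := by
      rw [hS, Matrix.diagonal_mul_diagonal, Matrix.diagonal_mul_diagonal]
      simp [mul_comm]
    simp only [Units.val_mul, mul_assoc]
    rw [hy, hcancel, mul_one, ← mul_assoc (x : Matrix (Fin 3) (Fin 3) F), hx, mul_assoc, ← hSd,
      ← mul_assoc ((Q'⁻¹ : GL (Fin 3) F) : Matrix (Fin 3) (Fin 3) F), hcancel, one_mul]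

/-- The coordinates of `R` can be chosen unitary up to a scalar. -/
theorem Frame.exists_unitary {R : Subgroup (GL (Fin 3) F)} (D : Frame R) (hF : Fintype.card F = q ^ 2)
    (hRU : R ≤ Cfsg.GU 3 F q) (hw : qFrob hF D.w * D.w = 1) :
    ∃ P : GL (Fin 3) F, P ∈ Cfsg.GU 3 F q ∧ ∀ (g M : Matrix (Fin 3) (Fin 3) F),
      g * D.P = (D.P : Matrix (Fin 3) (Fin 3) F) * M ↔ g * P = (P : Matrix (Fin 3) (Fin 3) F) * M := by
  classical
  let col : Fin 3 → (Fin 3 → F) := fun i => (D.P : Matrix (Fin 3) (Fin 3) F) *ᵥ Pi.single i 1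
  have ha := (mem_GU_iff hF).1 (hRU D.a_mem)
  have hb := (mem_GU_iff hF).1 (hRU D.b_mem)
  have hacol : ∀ i, (D.a : Matrix (Fin 3) (Fin 3) F) *ᵥ col i = D.w ^ (i : ℕ) • col i := fun i => by
    rw [mulVec_mulVec, D.a_eq, ← mulVec_mulVec, ← Matrix.mulVec_smul]
    congr 1
    funext j
    fin_cases i <;> fin_cases j <;> simp [matA, Matrix.mulVec_diagonal]
  have hbcol : ∀ i j : Fin 3, (j : ℕ) = ((i : ℕ) + 1) % 3 → (D.b : Matrix (Fin 3) (Fin 3) F) *ᵥ col i = col j := by
    intro i j h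
    rw [mulVec_mulVec, D.b_eq, ← mulVec_mulVec]
    congr 1
    funext k
    fin_cases i <;> fin_cases j <;> simp at h <;> fin_cases k <;> simp [matB]
  have hw0 : D.w ≠ 0 := fun e => by simpa [e] using D.w_cube
  have hpw : Function.Injective fun i : Fin 3 => D.w ^ (i : ℕ) := fun i j h =>
    Fin.ext ((isPrimitiveRoot_three D.w_cube D.w_ne).pow_inj i.2 j.2 h)
  have horth : ∀ i j, i ≠ j → hermB hF 3 (col i) (col j) = 0 := by
    intro i j hij
    have h := ha (col i) (col j)
    rw [hacol, hacol, hermB_smul_smul, map_pow] at h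
    by_contra h0
    have h1 : qFrob hF D.w ^ (i : ℕ) * D.w ^ (j : ℕ) = 1 := mul_right_cancel₀ h0 (h.trans (one_mul _).symm)
    have h2 : qFrob hF D.w ^ (i : ℕ) * D.w ^ (i : ℕ) = 1 := by rw [← mul_pow, hw, one_pow]
    exact hij (hpw (mul_left_cancel₀ (fun e => by simp [e] at h1) (h2.trans h1.symm)))
  have hdiag : ∀ i, hermB hF 3 (col i) (col i) = hermB hF 3 (col 0) (col 0) := by
    have h1 : hermB hF 3 (col 1) (col 1) = hermB hF 3 (col 0) (col 0) := by
      rw [← hb (col 0) (col 0), hbcol 0 1 rfl]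
    intro i
    fin_cases i
    · rfl
    · exact h1
    · show hermB hF 3 (col 2) (col 2) = _
      rw [← h1, ← hb (col 1) (col 1), hbcol 1 2 rfl]
  have hl : hermB hF 3 (col 0) (col 0) ≠ 0 := by
    intro h0
    have hz : col 0 = 0 := hermB_sep hF _ fun v => by
      obtain ⟨u, rfl⟩ : ∃ u, v = (D.P : Matrix (Fin 3) (Fin 3) F) *ᵥ u :=
        ⟨((D.P⁻¹ : GL (Fin 3) F) : Matrix (Fin 3) (Fin 3) F) *ᵥ v, by
          rw [mulVec_mulVec, Units.mul_inv, one_mulVec]⟩
      rw [mulVec_eq_sum_col, map_sum]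
      refine Finset.sum_eq_zero fun j _ => ?_
      rw [map_smul]
      rcases eq_or_ne 0 j with rfl | h
      · exact (congrArg _ h0).trans (smul_zero _)
      · exact (congrArg _ (horth 0 j h)).trans (smul_zero _)
    have h := congrFun (Matrix.mulVec_injective_of_isUnit D.P.isUnit (hz.trans (Matrix.mulVec_zero _).symm)) 0
    simp at h
  obtain ⟨c, hc0, hc⟩ := exists_norm_root hF hl (hermB_conj hF _ _)
  obtain ⟨P, hP, hPe⟩ := exists_gl_of_cols hF (M := c⁻¹ • (D.P : Matrix (Fin 3) (Fin 3) F)) fun i j => by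
    rw [Matrix.smul_mulVec, Matrix.smul_mulVec, hermB_smul_smul, map_inv₀]
    change _ * hermB hF 3 (col i) (col j) = _
    by_cases h : i = j
    · subst h
      have hσc : qFrob hF c ≠ 0 := (map_ne_zero _).2 hc0
      rw [if_pos rfl, hdiag, ← hc]
      field_simp
    · rw [if_neg h, horth i j h, mul_zero]
  refine ⟨P, hP, fun g M => ?_⟩
  rw [hPe, Matrix.mul_smul, smul_mul]
  exact ⟨fun h => by rw [h], fun h => smul_right_injective _ (inv_ne_zero hc0) h⟩

end CfsgLib.ExtraThree
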